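import Cfsg.Agent.Thm.Data
import Cfsg.Agent.Chev.Grp
import Cfsg.Agent.Chev.ReflG2
import Cfsg.Agent.Chev.ReflF4
import Cfsg.Agent.Chev.ReflE6
import Cfsg.Agent.Chev.ReflE7
import Cfsg.Agent.Chev.ReflE8

/-!
Thompson's conjecture for the exceptional Chevalley groups over fields with at least nine elements.
-/

set_option autoImplicit false
set_option synthInstance.maxSize 4096
set_option synthInstance.maxHeartbeats 200000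

namespace Cfsg.Agent.Thm

open Cfsg.Lie Cfsg.Lie.ChevalleyDatum Cfsg.Agent.Chev

/-- table lookup -/
def tb3 {α : Type} (l : List (List (List α))) (d : α) (k a b : ℕ) : α := ((l.getD k []).getD a []).getD b d

/-- table lookup -/
def tb1 (l : List ℤ) (k : ℕ) : ℤ := l.getD k 0

theorem chkG2 : Chk chevG2 rcG2 caG2 reflG2 0 2 (tb3 [] 0)
    (tb3 [] 0)
    (tb1 [3, 5]) (fun k => tb1 (([] : List (List ℤ)).getD k []))
    [0, 1, 0, 1, 0, 1] := by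
  constructor <;> decide +kernel

theorem thompsonG2 {F : Type*} [Field F] [Fintype F] (hF : 9 ≤ Fintype.card F) :
    ∃ c : chevG2.group F, ∀ g : chevG2.group F, ∃ x y : chevG2.group F, g = (x * c * x⁻¹) * (y * c * y⁻¹) :=
  chkG2.thompson (certG2.sys F) (by norm_num) certG2_rc cartanG2 ssG2 (certG2.sys_φ_inj F) hF

theorem chkF4 : Chk chevF4 rcF4 caF4 reflF4 1 2 (tb3 [[[0, 25, 26], [22, 0, 24], [21, 23, 0]]] 0)
    (tb3 [[[1, 1, 1], [1, 1, -1], [1, -1, 1]]] 0)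
    (tb1 [5, 9, 12, 6]) (fun k => tb1 (([[2, 4, 6, 3]] : List (List ℤ)).getD k []))
    [0, 1, 0, 2, 1, 0, 2, 1, 2, 3, 2, 1, 0, 2, 1, 2, 3, 2, 1, 0, 2, 1, 2, 3] := by
  constructor <;> decide +kernel

theorem thompsonF4 {F : Type*} [Field F] [Fintype F] (hF : 9 ≤ Fintype.card F) :
    ∃ c : chevF4.group F, ∀ g : chevF4.group F, ∃ x y : chevF4.group F, g = (x * c * x⁻¹) * (y * c * y⁻¹) :=
  chkF4.thompson (certF4.sys F) (by norm_num) certF4_rc cartanF4 ssF4 (certF4.sys_φ_inj F) hF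

theorem chkE6 : Chk chevE6 rcE6 caE6 reflE6 1 2 (tb3 [[[0, 46, 47], [25, 0, 39], [24, 32, 0]]] 0)
    (tb3 [[[1, 1, 1], [1, 1, -1], [1, -1, 1]]] 0)
    (tb1 [5, 6, 9, 12, 9, 5]) (fun k => tb1 (([[1, 2, 2, 3, 2, 1]] : List (List ℤ)).getD k []))
    [0, 1, 2, 0, 3, 1, 2, 0, 3, 2, 4, 3, 1, 2, 0, 3, 2, 4, 3, 1, 5, 4, 3, 1, 2, 0, 3, 2, 4, 3, 1, 5, 4, 3, 2, 0] := by
  constructor <;> decide +kernel

theorem thompsonE6 {F : Type*} [Field F] [Fintype F] (hF : 9 ≤ Fintype.card F) :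
    ∃ c : chevE6.group F, ∀ g : chevE6.group F, ∃ x y : chevE6.group F, g = (x * c * x⁻¹) * (y * c * y⁻¹) :=
  chkE6.thompson (certE6.sys F) (by norm_num) certE6_rc cartanE6 ssE6 (certE6.sys_φ_inj F) hF

theorem chkE7 : Chk chevE7 rcE7 caE7 reflE7 2 2 (tb3 [[[0, 73, 74], [52, 0, 69], [51, 56, 0]], [[0, 64, 65], [61, 0, 63], [60, 62, 0]]] 0)
    (tb3 [[[1, 1, 1], [1, 1, -1], [1, -1, 1]], [[1, 1, 1], [1, 1, -1], [1, -1, 1]]] 0)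
    (tb1 [7, 10, 13, 19, 15, 10, 5]) (fun k => tb1 (([[3, 4, 6, 8, 6, 4, 2], [2, 3, 4, 6, 5, 4, 2]] : List (List ℤ)).getD k []))
    [0, 1, 2, 0, 3, 1, 2, 0, 3, 2, 4, 3, 1, 2, 0, 3, 2, 4, 3, 1, 5, 4, 3, 1, 2, 0, 3, 2, 4, 3, 1, 5, 4, 3, 2, 0, 6, 5, 4, 3, 1, 2, 0, 3, 2, 4, 3, 1, 5, 4, 3, 2, 0, 6, 5, 4, 3, 1, 2, 3, 4, 5, 6] := by
  constructor <;> decide +kernel

theorem thompsonE7 {F : Type*} [Field F] [Fintype F] (hF : 9 ≤ Fintype.card F) :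
    ∃ c : chevE7.group F, ∀ g : chevE7.group F, ∃ x y : chevE7.group F, g = (x * c * x⁻¹) * (y * c * y⁻¹) :=
  chkE7.thompson (certE7.sys F) (by norm_num) certE7_rc cartanE7 ssE7 (certE7.sys_φ_inj F) hF

theorem chkE8 : Chk chevE8 rcE8 caE8 reflE8 2 3 (tb3 [[[0, 141, 142, 147], [98, 0, 130, 136], [97, 109, 0, 135], [92, 103, 104, 0]], [[0, 123, 124, 125], [116, 0, 121, 122], [115, 118, 0, 120], [114, 117, 119, 0]]] 0)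
    (tb3 [[[1, 1, 1, 1], [1, 1, -1, 1], [1, -1, 1, -1], [1, 1, -1, 1]], [[1, 1, 1, 1], [1, 1, -1, -1], [1, -1, 1, -1], [1, -1, -1, 1]]] 0)
    (tb1 [12, 17, 23, 34, 28, 21, 14, 7]) (fun k => tb1 (([[5, 8, 10, 15, 12, 9, 6, 3], [6, 9, 12, 18, 15, 12, 8, 4]] : List (List ℤ)).getD k []))
    [0, 1, 2, 0, 3, 1, 2, 0, 3, 2, 4, 3, 1, 2, 0, 3, 2, 4, 3, 1, 5, 4, 3, 1, 2, 0, 3, 2, 4, 3, 1, 5, 4, 3, 2, 0, 6, 5, 4, 3, 1, 2, 0, 3, 2, 4, 3, 1, 5, 4, 3, 2, 0, 6, 5, 4, 3, 1, 2, 3, 4, 5, 6, 7, 6, 5, 4, 3, 1, 2, 0, 3, 2, 4, 3, 1, 5, 4, 3, 2, 0, 6, 5, 4, 3, 1, 2, 3, 4, 5, 6, 7, 6, 5, 4, 3, 1, 2, 0, 3, 2, 4, 3, 1, 5, 4, 3, 2, 0, 6, 5, 4, 3, 1, 2, 3, 4, 5, 6, 7] := by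
  constructor <;> decide +kernel

theorem thompsonE8 {F : Type*} [Field F] [Fintype F] (hF : 9 ≤ Fintype.card F) :
    ∃ c : chevE8.group F, ∀ g : chevE8.group F, ∃ x y : chevE8.group F, g = (x * c * x⁻¹) * (y * c * y⁻¹) :=
  chkE8.thompson (certE8.sys F) (by norm_num) certE8_rc cartanE8 ssE8 (certE8.sys_φ_inj F) hF

end Cfsg.Agent.Thm
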